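import Mathlib
import Groth.Agent.CMCat.ComplQuot

/-! For a finite algebra `A` over a Noetherian ring `A₀` and an ideal `J`, the `J A`-adic completion
of `A` is `A ⊗[A₀] Â₀`. -/

set_option autoImplicit false

universe u

open scoped TensorProduct

namespace Groth.Agent.NormalDescCompl

variable {A₀ : Type u} [CommRing A₀] (J : Ideal A₀) (A : Type u) [CommRing A] [Algebra A₀ A]

local notation "K" => (J.map (algebraMap A₀ A))

/-- `Â₀ → Â` as an `A₀`-algebra map. -/
noncomputable def complAlgHom : AdicCompletion J A₀ →ₐ[A₀] AdicCompletion K A :=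
  { CMCat.complHom (algebraMap A₀ A) J K le_rfl with
    commutes' := fun a => by
      refine (CMCat.complHom_algebraMap (algebraMap A₀ A) J K le_rfl a).trans ?_
      exact (IsScalarTower.algebraMap_apply A₀ A (AdicCompletion K A) a).symm }

/-- `A ⊗[A₀] Â₀ → Â`. -/
noncomputable def baseHom : A ⊗[A₀] AdicCompletion J A₀ →ₐ[A] AdicCompletion K A :=
  Algebra.TensorProduct.lift (Algebra.ofId A _) (complAlgHom J A) (fun _ _ => Commute.all _ _)

theorem mem_smul_top_iff (n : ℕ) (x : A) :
    x ∈ (J ^ n • ⊤ : Submodule A₀ A) ↔ x ∈ (K ^ n : Ideal A) := by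
  rw [Ideal.smul_top_eq_map, Submodule.restrictScalars_mem, Ideal.map_pow]

theorem evalₐ_baseHom (n : ℕ) (t : AdicCompletion J A₀ ⊗[A₀] A) (b : A)
    (hb : (AdicCompletion.ofTensorProduct J A t).val n = Submodule.Quotient.mk b) :
    AdicCompletion.evalₐ K n (baseHom J A (Algebra.TensorProduct.comm A₀ _ _ t)) =
      Ideal.Quotient.mk (K ^ n) b := by
  have key : ∀ b b' : A, Submodule.Quotient.mk (p := (J ^ n • ⊤ : Submodule A₀ A)) b =
      Submodule.Quotient.mk b' → Ideal.Quotient.mk (K ^ n) b' = Ideal.Quotient.mk (K ^ n) b :=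
    fun b b' h => (Ideal.Quotient.mk_eq_mk_iff_sub_mem _ _).2
      ((mem_smul_top_iff J A n _).1 ((Submodule.Quotient.eq _).1 h.symm))
  induction t using TensorProduct.induction_on generalizing b with
  | zero =>
    rw [map_zero, map_zero, map_zero]
    rw [map_zero, AdicCompletion.val_zero_apply] at hb
    exact (map_zero (Ideal.Quotient.mk (K ^ n))).symm.trans (key _ 0 hb.symm)
  | tmul x a =>
    rw [AdicCompletion.ofTensorProduct_tmul, AdicCompletion.smul_eval] at hb
    induction x using AdicCompletion.induction_on with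
    | h f =>
      rw [Algebra.TensorProduct.comm_tmul, baseHom, Algebra.TensorProduct.lift_tmul, map_mul,
        Algebra.ofId_apply, AlgHom.commutes, Ideal.Quotient.algebraMap_eq]
      have h3 : AdicCompletion.evalₐ K n (complAlgHom J A (AdicCompletion.mk J A₀ f)) =
          Ideal.Quotient.mk (K ^ n) (algebraMap A₀ A (f.1 n)) :=
        (CMCat.evalₐ_complHom (algebraMap A₀ A) J K le_rfl n _).trans
          (CMCat.levelHom_mk (algebraMap A₀ A) J K le_rfl n f)
      rw [h3, ← map_mul, mul_comm, ← Algebra.smul_def]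
      exact key _ _ hb.symm
  | add s t hs ht =>
    obtain ⟨b₁, hb₁⟩ := Submodule.Quotient.mk_surjective _ ((AdicCompletion.ofTensorProduct J A s).val n)
    obtain ⟨b₂, hb₂⟩ := Submodule.Quotient.mk_surjective _ ((AdicCompletion.ofTensorProduct J A t).val n)
    rw [map_add, map_add, map_add, hs b₁ hb₁.symm, ht b₂ hb₂.symm, ← map_add]
    refine key _ _ ?_
    rw [Submodule.Quotient.mk_add, hb₁, hb₂, ← hb, map_add]
    rfl

theorem baseHom_bijective [IsNoetherianRing A₀] [Module.Finite A₀ A] :
    Function.Bijective (baseHom J A) := by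
  have hiso := AdicCompletion.ofTensorProduct_bijective_of_finite_of_isNoetherian (I := J) (M := A)
  refine ⟨?_, ?_⟩
  · rw [injective_iff_map_eq_zero]
    intro s hs
    obtain ⟨t, rfl⟩ := (Algebra.TensorProduct.comm A₀ (AdicCompletion J A₀) A).surjective s
    suffices ht : t = 0 by rw [ht, map_zero]
    refine hiso.1 ?_
    rw [map_zero]
    ext m
    obtain ⟨b, hb⟩ := Submodule.Quotient.mk_surjective _ ((AdicCompletion.ofTensorProduct J A t).val m)
    have h4 := evalₐ_baseHom J A m t b hb.symm
    rw [hs, map_zero] at h4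
    rw [AdicCompletion.val_zero_apply, ← hb]
    exact (Submodule.Quotient.mk_eq_zero _).2
      ((mem_smul_top_iff J A m b).2 (Ideal.Quotient.eq_zero_iff_mem.1 h4.symm))
  · intro y
    induction y using AdicCompletion.induction_on with
    | h f =>
      let g : AdicCompletion.AdicCauchySequence J A :=
        ⟨fun m => f.1 m, fun {m n} hmn => by
          refine (SModEq.sub_mem).2 ?_
          show f.1 m - f.1 n ∈ _
          rw [← Submodule.neg_mem_iff, neg_sub]
          exact (mem_smul_top_iff J A m _).2 (CMCat.cauchy_sub_mem K f hmn)⟩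
      obtain ⟨t, ht⟩ := hiso.2 (AdicCompletion.mk J A g)
      refine ⟨Algebra.TensorProduct.comm A₀ _ _ t, AdicCompletion.ext_evalₐ fun n => ?_⟩
      rw [evalₐ_baseHom J A n t (f.1 n) (by rw [ht]; rfl), AdicCompletion.evalₐ_mk]

/-- `A ⊗[A₀] Â₀ ≃ Â`. -/
noncomputable def baseEquiv [IsNoetherianRing A₀] [Module.Finite A₀ A] :
    A ⊗[A₀] AdicCompletion J A₀ ≃ₐ[A] AdicCompletion K A :=
  AlgEquiv.ofBijective (baseHom J A) (baseHom_bijective J A)

end Groth.Agent.NormalDescCompl
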