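import Groth.Agent.NormalTensor.Branches

/-! Normality of a flat base change descends from a finite extension of a normal ring. -/

set_option autoImplicit false
set_option linter.style.haveILetI false

universe u

open TensorProduct

namespace Groth.Agent.NormalDescCompl

open EGA4 (IsNormalRing)

/-- In any localisation of a normal ring, integral elements come from the ring. -/
theorem mem_range_of_isIntegral {R N : Type u} [CommRing R] [CommRing N] [Algebra R N]
    (S : Submonoid R) [IsLocalization S N] (h : IsNormalRing R) {x : N} (hx : IsIntegral R x) :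
    x ∈ (algebraMap R N).range := by
  let J : Ideal R := (LinearMap.range (Algebra.linearMap R N)).comap (LinearMap.toSpanSingleton R N x)
  have hJmem : ∀ c : R, c ∈ J ↔ algebraMap R N c * x ∈ (algebraMap R N).range := fun c => by
    rw [← Algebra.smul_def]
    rfl
  suffices J = ⊤ by
    have h1 := (hJmem 1).1 (this ▸ Submodule.mem_top)
    rwa [map_one, one_mul] at h1
  by_contra hJ
  obtain ⟨m, hm, hle⟩ := Ideal.exists_le_maximal J hJ
  haveI := (h m).1
  haveI := (h m).2
  let B := Localization.AtPrime m
  by_cases hS : ∀ s : S, algebraMap R B s ≠ 0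
  · let K := FractionRing B
    let ι : R →+* K := (algebraMap B K).comp (algebraMap R B)
    have hunit : ∀ t : S, IsUnit (ι t) := fun t => by
      rw [isUnit_iff_ne_zero, RingHom.comp_apply, map_ne_zero_iff _ (IsFractionRing.injective B K)]
      exact hS t
    let ψ : N →+* K := IsLocalization.lift hunit
    have hψ : ∀ r, ψ (algebraMap R N r) = ι r := fun r => IsLocalization.lift_eq hunit r
    obtain ⟨⟨a, ⟨s, hs⟩⟩, hxs⟩ := IsLocalization.surj S x
    simp only at hxs
    obtain ⟨p, hp, hpx⟩ := hx
    have hint : IsIntegral B (ψ x) := by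
      refine ⟨p.map (algebraMap R B), hp.map _, ?_⟩
      rw [Polynomial.eval₂_map]
      have h1 := Polynomial.hom_eval₂ p (algebraMap R N) ψ x
      rw [hpx, map_zero, show ψ.comp (algebraMap R N) = ι from RingHom.ext hψ] at h1
      exact h1.symm
    obtain ⟨y, hy⟩ := IsIntegrallyClosed.algebraMap_eq_of_integral hint
    obtain ⟨⟨c, t⟩, hct⟩ := IsLocalization.surj m.primeCompl y
    have h2 : algebraMap R B ((t : R) * a) = algebraMap R B (c * s) := by
      apply IsFractionRing.injective B K
      change ι ((t : R) * a) = ι (c * s)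
      rw [map_mul, map_mul, ← hψ a, ← hxs, map_mul, hψ, ← hy]
      simp only at hct
      simp only [ι, RingHom.comp_apply, ← hct, map_mul]
      ring
    obtain ⟨⟨e, he⟩, hec⟩ := (IsLocalization.eq_iff_exists m.primeCompl B).mp h2
    refine (m.primeCompl.mul_mem he t.2) (hle ((hJmem _).2 ⟨e * c, ?_⟩))
    refine (IsLocalization.map_units N (⟨s, hs⟩ : S)).mul_right_cancel ?_
    rw [mul_assoc, hxs, ← map_mul, ← map_mul]
    exact congrArg (algebraMap R N) (by linear_combination -hec)
  · push Not at hS
    obtain ⟨s, hs⟩ := hS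
    obtain ⟨⟨e, he⟩, hes⟩ := (IsLocalization.map_eq_zero_iff m.primeCompl B _).mp hs
    refine he (hle ((hJmem e).2 ⟨0, ?_⟩))
    rw [(IsLocalization.map_eq_zero_iff S N e).mpr ⟨s, (mul_comm _ _).trans hes⟩, map_zero, zero_mul]

theorem isNormalRing_tensor (A B C T : Type u) [CommRing A] [CommRing B] [CommRing C] [CommRing T]
    [Algebra A B] [Algebra A C] [Algebra B C] [IsScalarTower A B C] [Module.Finite B C]
    [IsNoetherianRing B] [Algebra A T] [Module.Flat A T] [IsNoetherianRing (B ⊗[A] T)]
    (hinj : Function.Injective (algebraMap B C)) (hB : IsNormalRing B)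
    (hC : IsNormalRing (C ⊗[A] T)) : IsNormalRing (B ⊗[A] T) := by
  classical
  haveI : IsReduced B := NormalTensor.isReduced_of_isNormalRing hB
  let S := nonZeroDivisors B
  let Q := FractionRing B
  let SC := Algebra.algebraMapSubmonoid C S
  let L := Localization SC
  letI aQL : Algebra Q L := (IsLocalization.map L (algebraMap B C)
    (show S ≤ SC.comap (algebraMap B C) from Submonoid.le_comap_map _) : Q →+* L).toAlgebra
  have hQL : ∀ b : B, algebraMap Q L (algebraMap B Q b) = algebraMap C L (algebraMap B C b) :=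
    fun b => IsLocalization.map_eq _ b
  haveI : IsScalarTower B Q L := IsScalarTower.of_algebraMap_eq fun b => by
    rw [hQL, ← IsScalarTower.algebraMap_apply]
  haveI : IsScalarTower A Q L := IsScalarTower.of_algebraMap_eq fun a => by
    rw [IsScalarTower.algebraMap_apply A B Q, hQL, ← IsScalarTower.algebraMap_apply A B C,
      ← IsScalarTower.algebraMap_apply]
  have hinjQL : Function.Injective (algebraMap Q L) := by
    refine (injective_iff_map_eq_zero _).2 fun q hq => ?_
    obtain ⟨⟨a, s⟩, has⟩ := IsLocalization.surj S q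
    have h1 := congrArg (algebraMap Q L) has
    rw [map_mul, hq, zero_mul, hQL] at h1
    obtain ⟨⟨_, w, hw, rfl⟩, hwa⟩ := (IsLocalization.map_eq_zero_iff SC L _).mp h1.symm
    have h2 : a = 0 := (mem_nonZeroDivisors_iff_right.mp hw) a (hinj (by
      rw [map_mul, map_zero, mul_comm]; exact hwa))
    simp only [h2, map_zero] at has
    exact (IsLocalization.map_units Q s).mul_left_eq_zero.mp has
  haveI : Module.Finite Q L := Module.Finite.of_isLocalization B C S
  haveI : IsArtinianRing Q := NormalTensor.isArtinianRing_fractionRing B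
  haveI : IsSemisimpleRing Q := IsArtinianRing.isSemisimpleRing_of_isReduced Q
  haveI : Module.Projective Q L := Module.projective_of_isSemisimpleRing _ _
  haveI : Module.FaithfullyFlat Q L := by
    refine Module.FaithfullyFlat.of_comap_surjective ?_
    haveI : FaithfulSMul Q L := (faithfulSMul_iff_algebraMap_injective Q L).mpr hinjQL
    exact Algebra.IsIntegral.comap_surjective _ _
  -- the localisations
  let N := Q ⊗[A] T
  let L' := L ⊗[A] T
  let fB := Algebra.TensorProduct.map (IsScalarTower.toAlgHom A B Q) (AlgHom.id A T)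
  let fC := Algebra.TensorProduct.map (IsScalarTower.toAlgHom A C L) (AlgHom.id A T)
  let g := Algebra.TensorProduct.map (IsScalarTower.toAlgHom A B C) (AlgHom.id A T)
  let F := Algebra.TensorProduct.map (IsScalarTower.toAlgHom A Q L) (AlgHom.id A T)
  letI : Algebra (B ⊗[A] T) N := fB.toRingHom.toAlgebra
  letI : Algebra (C ⊗[A] T) L' := fC.toRingHom.toAlgebra
  haveI : IsScalarTower B (B ⊗[A] T) N := IsScalarTower.of_algebraMap_eq fun b => by
    simp [fB, RingHom.algebraMap_toAlgebra, N]
    rfl
  haveI : IsScalarTower C (C ⊗[A] T) L' := IsScalarTower.of_algebraMap_eq fun b => by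
    simp [fC, RingHom.algebraMap_toAlgebra, L']
    rfl
  haveI : IsLocalization (Algebra.algebraMapSubmonoid (B ⊗[A] T) S) N :=
    IsLocalization.tensorProduct_tensorProduct A T S Q (RingHom.ext fun t => by
      simp [fB, RingHom.algebraMap_toAlgebra])
  haveI : IsLocalization (Algebra.algebraMapSubmonoid (C ⊗[A] T) SC) L' :=
    IsLocalization.tensorProduct_tensorProduct A T SC L (RingHom.ext fun t => by
      simp [fC, RingHom.algebraMap_toAlgebra])
  have hfB : Function.Injective fB :=
    Module.Flat.rTensor_preserves_injective_linearMap (IsScalarTower.toAlgHom A B Q).toLinearMap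
      (IsFractionRing.injective B Q)
  -- the fraction ring is normal
  have hL' : IsNormalRing L' :=
    NormalTensor.isNormalRing_localization (Algebra.algebraMapSubmonoid (C ⊗[A] T) SC) hC
  have hN : IsNormalRing N := by
    let e : N ⊗[Q] L ≃+* L' := (Algebra.TensorProduct.comm Q N L).toRingEquiv.trans
      (Algebra.TensorProduct.cancelBaseChange A Q Q L T).toRingEquiv
    exact NormalTensor.isNormalRing_of_faithfullyFlat N (N ⊗[Q] L)
      (NormalTensor.isNormalRing_of_ringEquiv e.symm hL')
  haveI : IsNoetherianRing N :=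
    IsLocalization.isNoetherianRing (Algebra.algebraMapSubmonoid (B ⊗[A] T) S) N inferInstance
  refine NormalTensor.isNormalRing_of_isIntegrallyClosedIn (N := N)
    (Algebra.algebraMapSubmonoid (B ⊗[A] T) S)
    (NormalTensor.le_nonZeroDivisors_of_injective (N := N) _ hfB) hN
    (isIntegrallyClosedIn_iff.mpr ⟨hfB, fun {x} hx => ?_⟩)
  -- integral elements
  have hsq : F.toRingHom.comp (algebraMap (B ⊗[A] T) N) =
      (algebraMap (C ⊗[A] T) L').comp g.toRingHom := by
    have h : F.comp fB = fC.comp g := by
      refine Algebra.TensorProduct.ext' fun b t => ?_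
      simp [F, fB, fC, g, hQL]
    exact congrArg AlgHom.toRingHom h
  obtain ⟨p, hp, hpx⟩ := hx
  have hint : IsIntegral (C ⊗[A] T) (F x) := by
    refine ⟨p.map g.toRingHom, hp.map _, ?_⟩
    rw [Polynomial.eval₂_map, ← hsq]
    refine (Polynomial.hom_eval₂ p (algebraMap (B ⊗[A] T) N) F.toRingHom x).symm.trans ?_
    rw [hpx, map_zero]
  obtain ⟨z, hz⟩ := mem_range_of_isIntegral (Algebra.algebraMapSubmonoid (C ⊗[A] T) SC) hC hint
  let ι : Q →ₗ[A] L := (IsScalarTower.toAlgHom A Q L).toLinearMap
  let κ : C →ₗ[A] L := (IsScalarTower.toAlgHom A C L).toLinearMap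
  let β : B →ₗ[A] Q := (IsScalarTower.toAlgHom A B Q).toLinearMap
  let π : L →ₗ[A] L ⧸ LinearMap.range κ := (LinearMap.range κ).mkQ
  have hex : Function.Exact β (π ∘ₗ ι) := fun q => by
    rw [LinearMap.comp_apply, Submodule.mkQ_apply, Submodule.Quotient.mk_eq_zero]
    constructor
    · rintro ⟨c, hc⟩
      have h1 : IsIntegral B (algebraMap Q L q) := by
        rw [show algebraMap Q L q = algebraMap C L c from hc.symm]
        exact (IsIntegral.of_finite B c).algebraMap
      rw [isIntegral_algebraMap_iff hinjQL] at h1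
      exact mem_range_of_isIntegral S hB h1
    · rintro ⟨b, rfl⟩
      exact ⟨algebraMap B C b, (hQL b).symm⟩
  have hF : F.toLinearMap = ι.rTensor T := TensorProduct.ext' fun q t => by simp [F, ι]
  have hfC' : fC.toLinearMap = κ.rTensor T := TensorProduct.ext' fun q t => by simp [fC, κ]
  have h0 : (π ∘ₗ ι).rTensor T x = 0 := by
    have h1 : ι.rTensor T x = κ.rTensor T z := by
      rw [← hF, ← hfC']
      exact hz.symm
    have h2 : π ∘ₗ κ = 0 := LinearMap.ext fun c =>
      (Submodule.Quotient.mk_eq_zero _).2 ⟨c, rfl⟩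
    rw [LinearMap.rTensor_comp, LinearMap.comp_apply, h1, ← LinearMap.comp_apply,
      ← LinearMap.rTensor_comp, h2, LinearMap.rTensor_zero, LinearMap.zero_apply]
  obtain ⟨y, hy⟩ := (Module.Flat.rTensor_exact T hex x).1 h0
  refine ⟨y, ?_⟩
  have hB' : fB.toLinearMap = β.rTensor T := TensorProduct.ext' fun q t => by simp [fB, β]
  exact (LinearMap.congr_fun hB' y).trans hy

end Groth.Agent.NormalDescCompl
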